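import Cfsg.Agent.H384.Cyc.Defs
import Cfsg.Agent.H997.OutCard
import Cfsg.Agent.H842.Cyc.Gen

/-!
# `Sm` from the order of the outer automorphism group (helper842, task 2967 of S3507)
-/

set_option autoImplicit false

namespace Cfsg.Agent.H842.Cyc

open Cfsg.Agent.H384.Cyc
open Cfsg.Agent.H867.MinIdx

universe u

variable {G : Type u} [Group G] [Finite G]

theorem mo_of_out {k M : ℕ} (hk : 0 < k) (hout : Nat.card (Cfsg.Out G) = k) (hM : ∀ g : G, orderOf g ≤ M) :
    Mo G (k * M) := by
  intro α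
  rw [H997.OutCard.card_out] at hout
  have h1 : α ^ k ∈ (MulAut.conj : G →* MulAut G).range := by
    rw [← hout]
    have : (MulAut.conj : G →* MulAut G).range.Normal := inferInstance
    exact Subgroup.pow_index_mem _ _
  obtain ⟨g, hg⟩ := h1
  have h2 : orderOf (α ^ k) ≤ M := by
    rw [← hg]
    exact (Nat.le_of_dvd (orderOf_pos g) (orderOf_map_dvd _ g)).trans (hM g)
  exact order_le_pow hk (orderOf_pos _) h2

theorem sm_of {m n : ℕ} (hm : Mo G m) (h : MI G n) (hn : 2 * m < n) : Sm G :=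
  ⟨m, hm, fun H hH => lt_of_lt_of_le hn (h.index H hH)⟩

end Cfsg.Agent.H842.Cyc
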