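import Cfsg.Agent.H842.Cyc.Gen
import Cfsg.Agent.H842.SevenSyl
import Cfsg.Agent.H841.Phi
import Cfsg.Agent.LThreeFi24.FiveConj
import Cfsg.Agent.H843.N29
import Cfsg.Agent.H843.N23
import Cfsg.Agent.H843.N17
import Cfsg.Agent.H843.N11
import Cfsg.Agent.PreUniqCo.FiTwentyTwo
import Cfsg.Agent.LThreeFi23.PrimesC
import Cfsg.Agent.LThreeFi23.ChkD

/-!
# The orders of the elements of odd order of `Fi24` (helper842, task 2967 of S3507)

* `five`: an element of order divisible by 5 has order at most 100;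
* `seven`: no element has order 49;
* `thirteen`: an element of odd order divisible by 13 has order dividing 195;
* `odd24`: an element of odd order has order at most 195, or dividing `7 * 3 ^ 16`.
-/

set_option autoImplicit false
set_option maxRecDepth 100000

namespace Cfsg.Agent.H842.Cyc.Odd24

open Subgroup Cfsg
open Cfsg.Agent.Fischer.Fi24Rep (gen)
open Cfsg.Agent.Fischer.Fi24Final (sgn)
open Cfsg.Agent.R08.FiTwentyFour (L facts finite_Fi24)
open Cfsg.Spor (Fi24)

/-! ### The prime 7 -/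

section Heis

variable {G : Type*} [Group G] {p : ℕ} {y c u : G}

theorem pow_form' (h : Heis.Dat p y c u) (k i j m : ℕ) : (u ^ k * y ^ i * c ^ j) ^ m =
    u ^ (k * m) * y ^ (i * m) * c ^ (∑ t ∈ Finset.range m, ((p - 1) * (k * (i * t)) + j)) := by
  induction m with
  | zero => simp
  | succ m ih =>
    rw [pow_succ, ih, h.mul_form, mul_add, mul_one, mul_add, mul_one, Finset.sum_range_succ]
    congr 2
    ring

theorem exp7 (h : Heis.Dat 7 y c u) {z : G} (hz : z ∈ h.P) : z ^ 7 = 1 := by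
  obtain ⟨k, i, j, rfl⟩ := h.mem_P.1 hz
  rw [pow_form' h]
  have h1 : (∑ t ∈ Finset.range 7, ((7 - 1) * (k * (i * t)) + j)) = 7 * (18 * (k * i) + j) := by
    simp only [Finset.sum_range_succ, Finset.sum_range_zero]
    ring
  rw [h1, mul_comm k 7, mul_comm i 7, pow_mul, pow_mul, pow_mul, h.up, h.yp, h.cp]
  simp

end Heis

theorem seven {x : Fi24} {k : ℕ} (hx : x ^ 7 ^ k = 1) : x ^ 7 = 1 := by
  have hfin := finite_Fi24
  have : Fact (Nat.Prime 7) := ⟨by norm_num⟩
  obtain ⟨Q, hQ⟩ := SevenSyl.exists_sylow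
  have hp : IsPGroup 7 ↥(zpowers x) := by
    have h1 : orderOf x ∣ 7 ^ k := orderOf_dvd_of_pow_eq_one hx
    obtain ⟨j, -, hj⟩ := (Nat.dvd_prime_pow (by norm_num)).1 h1
    exact IsPGroup.of_card (n := j) (by rw [Nat.card_zpowers, hj])
  obtain ⟨Q', hQ'⟩ := hp.exists_le_sylow
  obtain ⟨g, hg⟩ := MulAction.exists_smul_eq Fi24 Q' Q
  have h1 : g * x * g⁻¹ ∈ SevenSyl.dat.P := by
    rw [← hQ, ← hg, Sylow.coe_subgroup_smul]
    exact ⟨x, hQ' (mem_zpowers x), rfl⟩
  have h2 := exp7 SevenSyl.dat h1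
  rw [conj_pow] at h2
  have h3 : g * x ^ 7 = g := by simpa using mul_inv_eq_one.1 h2
  exact mul_eq_left.1 h3

/-! ### The prime 5 -/

theorem five {x : Fi24} (h : 5 ∣ orderOf x) : orderOf x ≤ 100 := by
  have hfin := finite_Fi24
  obtain ⟨m, hm⟩ := h
  have hx0 : 0 < orderOf x := orderOf_pos x
  have hm0 : m ≠ 0 := by
    rintro rfl
    omega
  have hy : orderOf (x ^ m) = 5 := by
    rw [orderOf_pow' x hm0, hm]
    rw [Nat.gcd_eq_right (Dvd.intro_left 5 rfl)]
    exact Nat.mul_div_cancel 5 (Nat.pos_of_ne_zero hm0)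
  obtain ⟨g, hg⟩ := LThreeFi24.FiveConj.exists_conj_five hy
  have hc : (g * x * g⁻¹) * LThreeFi24.SNine.y0 = LThreeFi24.SNine.y0 * (g * x * g⁻¹) := by
    rw [← hg]
    calc g * x * g⁻¹ * (g * x ^ m * g⁻¹) = g * (x * x ^ m) * g⁻¹ := by group
      _ = g * (x ^ m * x) * g⁻¹ := by rw [← pow_succ', ← pow_succ]
      _ = g * x ^ m * g⁻¹ * (g * x * g⁻¹) := by group
  obtain ⟨i, σ, -, -, hn⟩ := H841.Five.exists_of_comm hc
  rw [← orderOf_conj g x, hn]
  have hc2 : Commute (LThreeFi24.SNine.y0 ^ i) (H841.Five.Phi σ) := H841.Five.comm_y0_pow_Phi i σ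
  have hy5 : LThreeFi24.SNine.y0 ^ 5 = 1 := by
    rw [← hg, ← hy, conj_pow, pow_orderOf_eq_one, mul_one, mul_inv_cancel]
  have h1 : orderOf (LThreeFi24.SNine.y0 ^ i * H841.Five.Phi σ) ∣ 5 * orderOf σ := by
    apply orderOf_dvd_of_pow_eq_one
    rw [hc2.mul_pow, ← pow_mul, show i * (5 * orderOf σ) = 5 * (i * orderOf σ) by ring, pow_mul, hy5, one_pow, one_mul,
      mul_comm 5, pow_mul, ← map_pow, pow_orderOf_eq_one, map_one, one_pow]
  have h2 := perm9 σ
  have h3 : 0 < orderOf σ := orderOf_pos σ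
  exact (Nat.le_of_dvd (by omega) h1).trans (by omega)

/-! ### The prime 13 -/

/-- a word of order 13 -/
def w13 : List Spor.Fi24.Gen := [.e, .c, .d, .h, .i, .b, .f, .a]

def l13 : List ℕ := [0, 23, 136, 156, 166666, 166698]

theorem sieve13 : Nat.beq (KFacts.FiTF.FixMask.sv (Fischer.Fi24RepDef.nw w13 false) KFacts.FiTF.FixMask.bl Fischer.Fi24RepOrb.UG)
    (KFacts.FiTF.FixMask.msk l13) = true := by decide +kernel

/-- the word in `Fi23` -/
def v13 : List Spor.Fi23.Gen := [.e, .c, .d, .h, .i, .b, .f, .a]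

noncomputable def Y : Fi24 := Fischer.Fi24Rep.word w13

/-- the element of `Fi23` -/
noncomputable def YY : Spor.Fi23 := LThreeFi23.elw LThreeFi23.y13

theorem phi_YY : facts.phi YY = Y := by
  have h1 : YY = (v13.map Fischer.Fi23Hom.gen).prod := rfl
  have h2 : ∀ w : List Spor.Fi23.Gen, facts.phi ((w.map Fischer.Fi23Hom.gen).prod) = (w.map Fischer.Fi24Class.img).prod := by
    intro w
    induction w with
    | nil => simp
    | cons x w ih =>
      rw [List.map_cons, List.prod_cons, map_mul, ih, List.map_cons, List.prod_cons]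
      exact congrArg (· * _) (facts.phi_gen x)
  rw [h1, h2, Fischer.Fi24Class.img_word]
  have h3 : (gen .l : Fi24) ^ 2 = 1 := by rw [pow_two]; exact Fischer.Fi24Final.gen_sq .l
  have h4 : (gen .l : Fi24) ^ v13.length = 1 := by
    change gen .l ^ (2 * 4) = 1
    rw [pow_mul, h3, one_pow]
  refine (congrArg (_ * ·) h4).trans ?_
  rw [mul_one]
  rfl

theorem YY_pow : YY ^ 13 = 1 := LThreeFi23.pow13

theorem Y_pow : Y ^ 13 = 1 := by rw [← phi_YY, ← map_pow, YY_pow, map_one]

theorem YY_ne : YY ≠ 1 := by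
  intro h1
  have h2 : (2 : ℕ) ∈ [0, 1, 8006] := by
    apply (LThreeFi23.pchk_mem LThreeFi23.e_y13 2).1
    refine ⟨by norm_num, ?_⟩
    rw [LThreeFi23.pat_cons]
    refine ⟨⟨fun h3 => absurd ?_ h3, fun h3 => absurd h3 Bool.false_ne_true⟩, fun c hc => absurd hc (by simp)⟩
    change Fischer.Fi23Hom.rho YY 2 = 2
    rw [h1, map_one]
    rfl
  revert h2
  decide

theorem orderOf_YY : orderOf YY = 13 := by
  have : Fact (Nat.Prime 13) := ⟨by norm_num⟩
  exact orderOf_eq_prime YY_pow YY_ne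

theorem orderOf_Y : orderOf Y = 13 := by
  rw [← phi_YY, orderOf_injective facts.phi facts.phi_injective, orderOf_YY]

/-- the transpositions commuting with `Y` -/
theorem fix_Y {p : ℕ} (h : Fischer.Fi24RepOrb.UG.testBit p = true) (hp : Fischer.Fi24Rep.rho Y p = p) : p ∈ l13 := by
  have h1 : KFacts.FiTF.FixMask.sv (Fischer.Fi24RepDef.nw w13 false) KFacts.FiTF.FixMask.bl Fischer.Fi24RepOrb.UG =
    KFacts.FiTF.FixMask.msk l13 := Nat.eq_of_beq_eq_true sieve13
  rw [← KFacts.FiTF.FixMask.testBit_msk, ← h1]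
  apply KFacts.FiTF.FixMask.sv_spec (Fischer.Fi24RepDef.wok _ _) _ h
  rw [← Fischer.Fi24Rep.rho_word]
  exact hp

/-- the transpositions commuting with `Y` -/
def LY : Set Fi24 := {d | d ∈ L ∧ Y * d = d * Y}

theorem finite_LY : LY.Finite := by
  have hfin := finite_Fi24
  exact Set.toFinite _

theorem card_LY : LY.ncard ≤ 6 := by
  have hF := finite_Fi24
  choose P hP using fun d : LY => KFacts.FiTF.Pts.exists_pt d.2.1
  have h1 : ∀ d : LY, P d ∈ l13 := fun d => fix_Y (KFacts.FiTF.FixMask.bit (hP d)) (((hP d).comm_iff Y).1 d.2.2)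
  have h2 : Function.Injective (fun d : LY => (⟨P d, h1 d⟩ : {p : ℕ // p ∈ l13})) := by
    intro a b hab
    have h3 : P a = P b := congrArg Subtype.val hab
    have h4 := hP b
    rw [← h3] at h4
    exact Subtype.ext ((hP a).inj h4)
  have h3 := Nat.card_le_card_of_injective _ h2
  rw [Nat.card_coe_set_eq] at h3
  refine h3.trans (le_of_eq ?_)
  rw [Nat.card_eq_fintype_card]
  rfl

theorem conj_LY {x : Fi24} (hx : x * Y = Y * x) : ∀ d ∈ LY, x * d * x⁻¹ ∈ LY := by
  rintro d ⟨hd, hd2⟩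
  refine ⟨R08.FiTwentyFour.conj hd _, ?_⟩
  have h2 : Commute Y x := hx.symm
  exact (h2.mul_right (show Commute Y d from hd2)).mul_right h2.inv_right

/-- the second transposition -/
noncomputable def bb : Fi24 := facts.phi Fischer.Fi23Z.z0 * gen .l

theorem Y_l : Y * gen .l = gen .l * Y := by
  rw [← phi_YY]; exact facts.phi_comm _

theorem z0_comm : YY * Fischer.Fi23Z.z0 = Fischer.Fi23Z.z0 * YY := by
  have h1 := (LThreeFi23.pchk_mem LThreeFi23.e_y13 0).2 (by decide)
  have h2 : Fischer.Fi23Hom.rho YY 0 = 0 := by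
    have h3 := h1.2
    rw [LThreeFi23.pat_cons] at h3
    by_contra hne
    exact absurd (h3.1.1 hne) Bool.false_ne_true
  have h4 := (LThreeFi23.fix_iff YY (p := 0) (by norm_num)).1 h2
  rwa [LThreeFi23.T_zero] at h4

theorem bb_mem : bb ∈ L := by
  have hfin : Finite Spor.Fi23 := LThreeFi23.finG
  obtain ⟨g, hg⟩ := isConj_iff.1 (Fischer.Fi23Class.isConj_gen LThreeFi23.hle .a)
  have h1 : Fischer.Fi23Z.z0 = g⁻¹ * Fischer.Fi23Hom.gen .a * g := by rw [← hg]; group
  have h2 : facts.phi (Fischer.Fi23Hom.gen .a) * gen .l = gen .a := by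
    have h3 : facts.phi (Fischer.Fi23Hom.gen .a) = Fischer.Fi24Class.img .a := facts.phi_gen .a
    rw [h3]
    have h4 : Fischer.Fi24Class.img .a = gen .a * gen .l := rfl
    rw [h4, mul_assoc, Fischer.Fi24Final.gen_sq, mul_one]
  have h3 : bb = facts.phi g⁻¹ * gen .a * (facts.phi g⁻¹)⁻¹ := by
    have h4 : facts.phi g * gen .l = gen .l * facts.phi g := facts.phi_comm g
    unfold bb
    rw [h1, map_mul, map_mul, ← h2, ← map_inv, inv_inv]
    simp only [mul_assoc]
    rw [h4]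
  rw [h3]
  exact R08.FiTwentyFour.conj (R08.FiTwentyFour.gen_mem_L .a) _

theorem z0_ne : Fischer.Fi23Z.z0 ≠ 1 := by
  intro h
  apply Fischer.Fi23Class.z0_ncomm
  rw [h, one_mul, mul_one]

theorem l_ne_bb : gen .l ≠ bb := by
  intro h
  apply z0_ne
  apply facts.phi_injective
  rw [map_one]
  unfold bb at h
  exact mul_eq_right.1 h.symm

theorem l_bb : Commute (gen .l) bb := by
  have h1 : Commute (facts.phi Fischer.Fi23Z.z0) (gen .l) := facts.phi_comm _
  exact h1.symm.mul_right (Commute.refl _)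

theorem Y_bb : Commute Y bb := by
  have h1 : Commute Y (facts.phi Fischer.Fi23Z.z0) := by
    rw [← phi_YY]
    exact (show Commute YY Fischer.Fi23Z.z0 from z0_comm).map facts.phi
  exact h1.mul_right (show Commute Y (gen .l) from Y_l)

theorem mem_commutator_of_odd {x : Fi24} (h : ¬ 2 ∣ orderOf x) : x ∈ commutator Fi24 := by
  rw [R08.FiTwentyFour.mem_commutator_iff]
  rcases Int.units_eq_one_or (sgn x) with h1 | h1
  · exact h1
  · have h2 : sgn x ^ orderOf x = 1 := by rw [← map_pow, pow_orderOf_eq_one, map_one]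
    have h3 : Odd (orderOf x) := by
      rw [← Nat.not_even_iff_odd, even_iff_two_dvd]
      exact h
    rw [h1, h3.neg_one_pow] at h2
    exact absurd h2 (by decide)

theorem not_dvd_pow {G : Type*} [Group G] {x : G} {k : ℕ} (h : ¬ 2 ∣ orderOf x) : ¬ 2 ∣ orderOf (x ^ k) := fun h1 =>
  h (h1.trans (orderOf_pow_dvd k))

/-- elements commuting with two transpositions and with an element of order 13 -/
theorem pair {a b : Fi24} (ha : a ∈ L) (hb : b ∈ L) (hne : a ≠ b) (hab : Commute a b) {x y : Fi24}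
    (hx : x ∈ commutator Fi24) (hxa : Commute x a) (hxb : Commute x b)
    (hy : y ∈ commutator Fi24) (hya : Commute y a) (hyb : Commute y b) (ho : orderOf y = 13) (hxy : x * y = y * x) :
    x ^ 26 = 1 := by
  obtain ⟨π, -, hk, -⟩ := R08.FiTwentyFour.loc ha hb hne hab
  have hX : x ∈ commutator Fi24 ⊓ Subgroup.centralizer {a, b} := by
    refine Subgroup.mem_inf.2 ⟨hx, ?_⟩
    rw [mem_centralizer_iff]
    rintro z (rfl | rfl)
    · exact hxa.symm
    · exact hxb.symm
  have hY : y ∈ commutator Fi24 ⊓ Subgroup.centralizer {a, b} := by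
    refine Subgroup.mem_inf.2 ⟨hy, ?_⟩
    rw [mem_centralizer_iff]
    rintro z (rfl | rfl)
    · exact hya.symm
    · exact hyb.symm
  have h2 : (a * b) ^ 2 = 1 := by
    rw [hab.mul_pow, pow_two, pow_two, R08.FiTwentyFour.sq ha, R08.FiTwentyFour.sq hb, one_mul]
  have hk2 : ∀ z, π z = 1 → z ^ 2 = 1 := by
    intro z hz
    apply Subtype.ext
    rcases (hk z).1 hz with h1 | h1
    · rw [coe_pow, h1, one_pow]; rfl
    · rw [coe_pow, h1, h2]; rfl
  have hy' : orderOf (π ⟨y, hY⟩) = 13 := by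
    have : Fact (Nat.Prime 13) := ⟨by norm_num⟩
    apply orderOf_eq_prime
    · rw [← map_pow, show (⟨y, hY⟩ : ↥(commutator Fi24 ⊓ Subgroup.centralizer {a, b})) ^ 13 = 1 from
        Subtype.ext (by rw [← ho]; exact pow_orderOf_eq_one y), map_one]
    · intro h1
      have h3 : y ^ 2 = 1 := congrArg Subtype.val (hk2 _ h1)
      have h4 : orderOf y ∣ 2 := orderOf_dvd_of_pow_eq_one h3
      rw [ho] at h4
      norm_num at h4
  have hc : π ⟨x, hX⟩ * π ⟨y, hY⟩ = π ⟨y, hY⟩ * π ⟨x, hX⟩ := by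
    rw [← map_mul, ← map_mul]
    congr 1
    exact Subtype.ext hxy
  have h13 := PreUniqCo.FiTwentyTwo.thirteen (MulEquiv.refl Spor.Fi22) hy' hc
  rw [← map_pow] at h13
  have h14 := congrArg Subtype.val (hk2 _ h13)
  have h16 : (x ^ 13) ^ 2 = 1 := h14
  rw [← h16, ← pow_mul]

/-- an element of odd order commuting with `Y` -/
theorem thirteen_Y {x : Fi24} (h : ¬ 2 ∣ orderOf x) (hY : x * Y = Y * x) : x ^ 195 = 1 := by
  have key : ∀ d ∈ LY, Commute (x ^ 15) d := by
    intro d hd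
    obtain ⟨j, hj0, hj, hc⟩ := exists_pow_comm finite_LY (conj_LY hY) hd card_LY
    apply comm_of_coprime (m := 4)
    · rw [show (4 : ℕ) = 2 ^ 2 by norm_num]
      exact Nat.Coprime.pow_left 2 ((Nat.Prime.coprime_iff_not_dvd Nat.prime_two).2 h)
    · obtain ⟨q, hq⟩ : j ∣ 4 * 15 := by
        interval_cases j <;> norm_num
      rw [hq, pow_mul]
      exact (show Commute (x ^ j) d from hc).pow_left q
  have hl : Commute (x ^ 15) (gen .l) := key _ ⟨R08.FiTwentyFour.gen_mem_L .l, Y_l⟩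
  have hb : Commute (x ^ 15) bb := key _ ⟨bb_mem, Y_bb⟩
  have h14 := pair (R08.FiTwentyFour.gen_mem_L .l) bb_mem l_ne_bb l_bb (mem_commutator_of_odd (not_dvd_pow h)) hl hb
    (mem_commutator_of_odd (by rw [orderOf_Y]; norm_num)) Y_l Y_bb orderOf_Y
    ((show Commute x Y from hY).pow_left 15).eq
  have h15 : x ^ 390 = 1 := by
    rw [← h14, ← pow_mul]
  have h16 : orderOf x ∣ 2 * 195 := orderOf_dvd_of_pow_eq_one h15
  have h17 : orderOf x ∣ 195 := by
    refine Nat.Coprime.dvd_of_dvd_mul_left ?_ h16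
    exact ((Nat.Prime.coprime_iff_not_dvd Nat.prime_two).2 h).symm
  exact orderOf_dvd_iff_pow_eq_one.1 h17

theorem not_sq {p : ℕ} (h : ¬ p ^ 2 ∣ 2510411418381323442585600) : ¬ p ^ 2 ∣ Nat.card Fi24 := by
  rwa [H843.Fi24N.card_Fi24]

theorem thirteen {x : Fi24} (h : ¬ 2 ∣ orderOf x) (h13 : 13 ∣ orderOf x) : x ^ 195 = 1 := by
  have hfin := finite_Fi24
  obtain ⟨g, hg⟩ := syl_conj (p := 13) (by norm_num) (not_sq (by norm_num)) (X := zpowers Y)
    (by rw [Nat.card_zpowers, orderOf_Y]) h13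
  have h1 : (g * x * g⁻¹) * Y = Y * (g * x * g⁻¹) := (mem_centralizer_iff.1 hg Y (mem_zpowers Y)).symm
  have h2 := thirteen_Y (x := g * x * g⁻¹) (by rwa [orderOf_conj]) h1
  rw [← orderOf_dvd_iff_pow_eq_one, orderOf_conj, orderOf_dvd_iff_pow_eq_one] at h2
  exact h2

theorem eleven {x : Fi24} (h : 11 ∣ orderOf x) : orderOf x ∣ 2640 := by
  have hfin := finite_Fi24
  exact of_syl (p := 11) (by norm_num) (not_sq (by norm_num)) (X := zpowers H843.D11.D.x)
    (by rw [Nat.card_zpowers, H843.D11.order]) H843.D11.main h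

theorem seventeen {x : Fi24} (h : 17 ∣ orderOf x) : orderOf x ∣ 34 := by
  have hfin := finite_Fi24
  exact of_syl' (p := 17) (by norm_num) (not_sq (by norm_num)) (X := zpowers H843.D17.D.x)
    (by rw [Nat.card_zpowers, H843.D17.order]) H843.D17.main.2 h

theorem twentythree {x : Fi24} (h : 23 ∣ orderOf x) : orderOf x ∣ 46 := by
  have hfin := finite_Fi24
  exact of_syl' (p := 23) (by norm_num) (not_sq (by norm_num)) (X := zpowers H843.D23.D.x)
    (by rw [Nat.card_zpowers, H843.D23.order]) H843.D23.main.2 h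

theorem twentynine {x : Fi24} (h : 29 ∣ orderOf x) : orderOf x ∣ 29 := by
  have hfin := finite_Fi24
  exact of_syl' (p := 29) (by norm_num) (not_sq (by norm_num)) (X := zpowers H843.D29.D.x)
    (by rw [Nat.card_zpowers, H843.D29.order]) H843.D29.main.2 h

/-- **The elements of odd order of `Fi24`.** -/
theorem odd24 {x : Fi24} (h : ¬ 2 ∣ orderOf x) : orderOf x ≤ 195 ∨ orderOf x ∣ 7 * 3 ^ 16 := by
  have hfin := finite_Fi24
  have hx0 : 0 < orderOf x := orderOf_pos x
  have hodd : ∀ a b : ℕ, 0 < b → b ≤ 195 → orderOf x ∣ 2 ^ a * b → orderOf x ≤ 195 := by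
    intro a b hb hb2 h1
    have h2 : orderOf x ∣ b := Nat.Coprime.dvd_of_dvd_mul_left
      ((Nat.Coprime.pow_left a ((Nat.Prime.coprime_iff_not_dvd Nat.prime_two).2 h)).symm) h1
    exact (Nat.le_of_dvd hb h2).trans hb2
  by_cases h5 : 5 ∣ orderOf x
  · left
    exact (five h5).trans (by norm_num)
  by_cases h11 : 11 ∣ orderOf x
  · left
    exact hodd 4 165 (by norm_num) (by norm_num) (eleven h11)
  by_cases h17 : 17 ∣ orderOf x
  · left
    exact hodd 1 17 (by norm_num) (by norm_num) (seventeen h17)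
  by_cases h23 : 23 ∣ orderOf x
  · left
    exact hodd 1 23 (by norm_num) (by norm_num) (twentythree h23)
  by_cases h29 : 29 ∣ orderOf x
  · left
    exact hodd 0 29 (by norm_num) (by norm_num) (by rw [pow_zero, one_mul]; exact twentynine h29)
  by_cases h13 : 13 ∣ orderOf x
  · left
    exact hodd 0 195 (by norm_num) (by norm_num) (by rw [pow_zero, one_mul]; exact orderOf_dvd_of_pow_eq_one (thirteen h h13))
  right
  have h1 : orderOf x ∣ 2 ^ 22 * (5 ^ 2 * (11 * (13 * (17 * (23 * (29 * (7 ^ 3 * 3 ^ 16))))))) := by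
    have h2 : orderOf x ∣ Nat.card Fi24 := orderOf_dvd_natCard x
    rw [H843.Fi24N.card_Fi24] at h2
    exact h2
  have cop : ∀ p k : ℕ, p.Prime → ¬ p ∣ orderOf x → Nat.Coprime (orderOf x) (p ^ k) := fun p k hp h3 =>
    (Nat.Coprime.pow_left k ((Nat.Prime.coprime_iff_not_dvd hp).2 h3)).symm
  have cop1 : ∀ p : ℕ, p.Prime → ¬ p ∣ orderOf x → Nat.Coprime (orderOf x) p := fun p hp h3 =>
    ((Nat.Prime.coprime_iff_not_dvd hp).2 h3).symm
  have h2 := (cop 2 22 (by norm_num) h).dvd_of_dvd_mul_left h1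
  have h3 := (cop 5 2 (by norm_num) h5).dvd_of_dvd_mul_left h2
  have h4 := (cop1 11 (by norm_num) h11).dvd_of_dvd_mul_left h3
  have h5 := (cop1 13 (by norm_num) h13).dvd_of_dvd_mul_left h4
  have h6 := (cop1 17 (by norm_num) h17).dvd_of_dvd_mul_left h5
  have h7 := (cop1 23 (by norm_num) h23).dvd_of_dvd_mul_left h6
  have h8 := (cop1 29 (by norm_num) h29).dvd_of_dvd_mul_left h7
  -- the prime 7
  have h9 : (x ^ 3 ^ 16) ^ 7 ^ 3 = 1 := by
    rw [← pow_mul, mul_comm, ← orderOf_dvd_iff_pow_eq_one]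
    exact h8
  have h10 := seven h9
  rw [← pow_mul, mul_comm] at h10
  exact orderOf_dvd_of_pow_eq_one h10

end Cfsg.Agent.H842.Cyc.Odd24
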