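import Cfsg.Agent.H840.M499
import Cfsg.Agent.H830.Con24
import Cfsg.Agent.H830.Type24
import Cfsg.Agent.H842.SevenSyl
import Cfsg.Agent.H842.Cyc.Unip
import Cfsg.Agent.H842.Cyc.Odd24
import Cfsg.Agent.S1685
import Cfsg.Agent.S1686

/-!
# The 3-elements of `Fi22`, `Fi23` and `Fi24` (helper842, task 2967 of S3507)

* `three24`: a 3-element of `Fi24` satisfies `x ^ 243 = 1`;
* `three23`: a 3-element of `Fi23` satisfies `x ^ 27 = 1`;
* `three22`: a 3-element of `Fi22` satisfies `x ^ 9 = 1`.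
-/

set_option autoImplicit false
set_option maxRecDepth 100000

namespace Cfsg.Agent.H842.Cyc.Three24

open Subgroup Cfsg
open Cfsg.Agent.Fischer.Fi24Rep (gen)
open Cfsg.Agent.R08.FiTwentyFour (L facts finite_Fi24)
open Cfsg.Agent.H840.Lk (Clk)
open Cfsg.Agent.H840.M499 (PO)
open Cfsg.Spor (Fi24 Fi23 Fi22)
open Equiv

/-- `⟨l, k⟩` -/
abbrev Slk : Subgroup Fi24 := closure ({gen .l, gen .k} : Set Fi24)

theorem struct : Slk ⊓ Clk = ⊥ ∧ (∀ x ∈ Slk, ∀ y ∈ Clk, x * y = y * x) ∧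
    Nonempty (↥Slk ≃* Perm (Fin 3)) ∧
    Nonempty (↥(generalizedFittingSubgroup ↥Clk) ≃* POmega (ZMod 3) (quadFormPlus 4 (ZMod 3))) ∧
    (∃ _ : (generalizedFittingSubgroup ↥Clk).Normal,
      Nonempty (↥Clk ⧸ generalizedFittingSubgroup ↥Clk ≃* Perm (Fin 3))) := by
  have : Finite Fi24 := finite_Fi24
  have h1 := H840.M499.main H830.Con24.fgroup (H840.Lk.gen_mem .l) (H840.Lk.gen_mem .k) H840.Lk.not_comm_lk
    H840.M499.core (H830.Type24.isOfTypeM24 H830.Con24.fgroup H830.Con24.isT8) _ Slk Clk rfl rfl rfl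
  exact ⟨h1.1, h1.2.1, h1.2.2.2.1, h1.2.2.2.2.2.1, h1.2.2.2.2.2.2.1⟩

theorem card_Slk : Nat.card ↥Slk = 6 := by
  obtain ⟨e⟩ := struct.2.2.1
  rw [Nat.card_congr e.toEquiv, Nat.card_eq_fintype_card, Fintype.card_perm, Fintype.card_fin]
  rfl

theorem card_sup : Nat.card ↥(Slk ⊔ Clk) = 178278473318400 := by
  rw [card_sup_of_commute struct.1 struct.2.1, card_Slk, H840.Lk.card_Clk]

/-- a power of an element of `S ⊔ C(l, k)` -/
theorem three_N {n : Fi24} (hn : n ∈ Slk ⊔ Clk) {k : ℕ} (hk : n ^ 3 ^ k = 1) : n ^ 27 = 1 := by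
  have hfin := finite_Fi24
  obtain ⟨-, hc, ⟨eS⟩, ⟨eF⟩, hN, ⟨eQ⟩⟩ := struct
  refine three_abs ?_ hc (Φ := generalizedFittingSubgroup ↥Clk) ?_ ?_ hn hk
  · intro s hs
    have h1 : eS ⟨s, hs⟩ ^ 6 = 1 := perm3_pow _
    rw [← map_pow, MulEquiv.map_eq_one_iff] at h1
    exact congrArg Subtype.val h1
  · intro q
    have h1 : eQ q ^ 6 = 1 := perm3_pow _
    rwa [← map_pow, MulEquiv.map_eq_one_iff] at h1
  · intro f k hf
    have h1 : eF f ^ 3 ^ k = 1 := by rw [← map_pow, hf, map_one]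
    have h2 := PO8_pow h1
    rwa [← map_pow, MulEquiv.map_eq_one_iff] at h2

/-- **The 3-elements of `Fi24`.** -/
theorem three24 {x : Fi24} {k : ℕ} (hk : x ^ 3 ^ k = 1) : x ^ 243 = 1 := by
  have hfin := finite_Fi24
  have hidx : (Slk ⊔ Clk).index = 14081405184 := by
    have h1 := (Slk ⊔ Clk).card_mul_index
    rw [card_sup, H843.Fi24N.card_Fi24] at h1
    omega
  obtain ⟨g, hg⟩ := exists_conj_pow Nat.prime_three (Slk ⊔ Clk) (e := 2) (by rw [hidx]; norm_num) hk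
  have h1 : (g * x ^ 3 ^ 2 * g⁻¹) ^ 3 ^ k = 1 := by
    rw [conj_pow, ← pow_mul, mul_comm, pow_mul, hk, one_pow, mul_one, mul_inv_cancel]
  have h2 := three_N hg h1
  rw [conj_pow, ← pow_mul] at h2
  have h3 : g * x ^ (3 ^ 2 * 27) = g := by simpa using mul_inv_eq_one.1 h2
  exact mul_eq_left.1 h3

/-- **The 3-elements of `Fi23`.** -/
theorem three23 {x : Fi23} {k : ℕ} (hk : x ^ 3 ^ k = 1) : x ^ 27 = 1 := by
  have hfin := finite_Fi24
  let C : Subgroup Fi24 := centralizer ({gen .l} : Set Fi24)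
  have hle : Clk ≤ C := by
    intro y hy
    exact mem_centralizer_singleton_iff.2 (H840.Lk.mem_Clk.1 hy).1
  have hx : facts.phi x ∈ C := mem_centralizer_singleton_iff.2 (facts.phi_comm x)
  have hidx : (Clk.subgroupOf C).index = 275264 := by
    have h1 := (Clk.subgroupOf C).card_mul_index
    rw [Nat.card_congr (subgroupOfEquivOfLe hle).toEquiv, H840.Lk.card_Clk] at h1
    have h2 := SevenSyl.card_cent_l
    have h3 : Nat.card ↥C = Nat.card ↥(centralizer ({gen .l} : Set Fi24)) := rfl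
    omega
  have h1 : (⟨facts.phi x, hx⟩ : ↥C) ^ 3 ^ k = 1 := by
    apply Subtype.ext
    show facts.phi x ^ 3 ^ k = 1
    rw [← map_pow, hk, map_one]
  obtain ⟨g, hg⟩ := exists_conj_pow Nat.prime_three (Clk.subgroupOf C) (e := 0) (by rw [hidx]; norm_num) h1
  rw [pow_zero, pow_one, mem_subgroupOf] at hg
  have h2 : ((g : Fi24) * facts.phi x * (g : Fi24)⁻¹) ^ 3 ^ k = 1 := by
    rw [conj_pow, ← map_pow, hk, map_one, mul_one, mul_inv_cancel]
  have hg' : (g : Fi24) * facts.phi x * (g : Fi24)⁻¹ ∈ Slk ⊔ Clk := (le_sup_right : Clk ≤ Slk ⊔ Clk) hg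
  have h3 := three_N hg' h2
  rw [conj_pow] at h3
  have h4 : (g : Fi24) * facts.phi x ^ 27 = g := by simpa using mul_inv_eq_one.1 h3
  have h5 := mul_eq_left.1 h4
  apply facts.phi_injective
  rw [map_pow, h5, map_one]

/-- **The 3-elements of `Fi22`.** -/
theorem three22 {x : Fi22} {k : ℕ} (hk : x ^ 3 ^ k = 1) : x ^ 9 = 1 := by
  have hfin : Finite Fi22 := Cfsg.Agent.R01.Fi22Facts.finite
  obtain ⟨e⟩ := S1686.result
  obtain ⟨g, hg⟩ := exists_conj_pow Nat.prime_three _ (e := 0) (by rw [S1685.result]; norm_num) hk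
  rw [pow_zero, pow_one] at hg
  have h1 : (e ⟨_, hg⟩) ^ 3 ^ k = 1 := by
    rw [← map_pow, MulEquiv.map_eq_one_iff]
    apply Subtype.ext
    show (g * x * g⁻¹) ^ 3 ^ k = 1
    rw [conj_pow, hk, mul_one, mul_inv_cancel]
  have h2 := PO7_pow h1
  rw [← map_pow, MulEquiv.map_eq_one_iff] at h2
  have h3 : (g * x * g⁻¹) ^ 9 = 1 := congrArg Subtype.val h2
  rw [conj_pow] at h3
  have h4 : g * x ^ 9 = g := by simpa using mul_inv_eq_one.1 h3
  exact mul_eq_left.1 h4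

end Cfsg.Agent.H842.Cyc.Three24
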