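import Cfsg.Agent.S2263
import Cfsg.Agent.S2153
import Cfsg.Agent.H647.SpF.Fi22Main
import Cfsg.Agent.H842.Cyc.Three24
import Cfsg.Agent.H842.Cyc.Odd24

/-!
# The orders of the elements of `Fi22` (helper842, task 2967 of S3507)

* `psu_le`: a bound for `PGU_n(q)` is a bound for `PSU_n(q)`;
* `cent_T`: the elements of the centralizer of a transposition have order at most 72;
* `max22`: the elements have order at most 195;
* `MI_Fi22`: the proper subgroups have index at least 1344.
-/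

set_option autoImplicit false
set_option maxRecDepth 100000

namespace Cfsg.Agent.H842.Cyc.Fi22

open Subgroup Cfsg
open Cfsg.Agent.H867.MinIdx
open Cfsg.Agent.SporRec.GF4
open Cfsg.Agent.Fischer.Unit22 (hF)
open Cfsg.Agent.LThreeFi22
open Cfsg.Spor (Fi22 Fi24)

local notation "TT" => Cfsg.Agent.R01.Fi22Facts.T

/-! ### Unitary groups -/

section PSU

variable {F : Type*} [Field F] {n q : ℕ}

/-- `SU_n ≤ GU_n` -/
def suGu : ↥(SU n F q) →* ↥(GU n F q) where
  toFun g := ⟨Matrix.SpecialLinearGroup.toGL (g : Matrix.SpecialLinearGroup (Fin n) F), g.2⟩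
  map_one' := by
    apply Subtype.ext
    show Matrix.SpecialLinearGroup.toGL _ = _
    rw [coe_one, map_one]
    rfl
  map_mul' a b := by
    apply Subtype.ext
    show Matrix.SpecialLinearGroup.toGL _ = _
    rw [coe_mul, map_mul]
    rfl

theorem suGu_injective : Function.Injective (suGu (n := n) (F := F) (q := q)) := by
  intro a b h
  have h1 := congrArg Subtype.val h
  have h2 : ((a : Matrix.SpecialLinearGroup (Fin n) F) : Matrix (Fin n) (Fin n) F) =
      ((b : Matrix.SpecialLinearGroup (Fin n) F) : Matrix (Fin n) (Fin n) F) := congrArg Units.val h1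
  exact Subtype.ext (Subtype.ext h2)

theorem psu_le [Finite F] {M : ℕ} (h : ∀ g : (↥(GU n F q) ⧸ Subgroup.center ↥(GU n F q)), orderOf g ≤ M)
    (x : PSU n F q) : orderOf x ≤ M := by
  obtain ⟨g, rfl⟩ := QuotientGroup.mk_surjective x
  have h1 : orderOf ((g : ↥(SU n F q)) : PSU n F q) ∣
      orderOf ((suGu g : ↥(GU n F q)) : ↥(GU n F q) ⧸ Subgroup.center ↥(GU n F q)) := by
    apply orderOf_dvd_of_pow_eq_one
    rw [← QuotientGroup.mk_pow, QuotientGroup.eq_one_iff, mem_center_iff]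
    intro a
    have h2 := pow_orderOf_eq_one ((suGu g : ↥(GU n F q)) : ↥(GU n F q) ⧸ Subgroup.center ↥(GU n F q))
    rw [← QuotientGroup.mk_pow, QuotientGroup.eq_one_iff, mem_center_iff] at h2
    apply suGu_injective
    rw [map_mul, map_mul, map_pow]
    exact h2 (suGu a)
  have hfin : Finite (↥(GU n F q) ⧸ Subgroup.center ↥(GU n F q)) := by
    have : Finite ↥(GU n F q) := by
      have : Finite (Matrix.GeneralLinearGroup (Fin n) F) := inferInstance
      exact inferInstance
    exact inferInstance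
  exact (Nat.le_of_dvd (orderOf_pos _) h1).trans (h _)

end PSU

theorem card_F4 : Fintype.card F4 = 4 := hF

theorem psu6 (x : PSU 6 F4 2) : orderOf x ≤ 36 := by
  have h := (S2263.result (F := F4) 2 1 6 Nat.prime_two le_rfl 2 (by norm_num) hF (by norm_num) (by norm_num)).2.2.2
    (by decide) rfl
  exact psu_le h.1 x

theorem MI_psu6 : MI (PSU 6 F4 2) 672 :=
  MI.of_index fun K hK => (S2153.result (F := F4) card_F4 6 (by norm_num) le_rfl).1 K hK

/-! ### The centralizer of a transposition -/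

theorem fin22 : Finite Fi22 := H647.SpF.Fi22.ctx0.finite

theorem exists_base {a : Fi22} (ha : a ∈ TT) : ∃ (π : Subgroup.centralizer ({a} : Set Fi22) →* PSU 6 F4 2)
      (lift : (Fin 6 → F4) → Subgroup.centralizer ({a} : Set Fi22)),
        KFacts.FiTT.Base Fi22 (KFacts.FiTT.TK (MulEquiv.refl Fi22)) a π lift :=
  Inst.base_at (MulEquiv.refl Spor.Fi22) (a := a) ((Inst.mem_TK _).2 ha)

/-- the central extension -/
theorem exists_ext {a : Fi22} (ha : a ∈ TT) : ∃ π : Subgroup.centralizer ({a} : Set Fi22) →* PSU 6 F4 2,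
    Function.Surjective π ∧ (∀ x, π x = 1 ↔ (x : Fi22) = 1 ∨ (x : Fi22) = a) ∧
      commutator ↥(Subgroup.centralizer ({a} : Set Fi22)) = ⊤ := by
  obtain ⟨π, lift, B⟩ := exists_base ha
  refine ⟨π, B.lab.ext.surj, ?_, B.lab.perf⟩
  intro x
  rw [B.lab.ext.ker]
  constructor
  · rintro (rfl | rfl)
    · exact Or.inl rfl
    · exact Or.inr rfl
  · rintro (h | h)
    · exact Or.inl (Subtype.ext h)
    · exact Or.inr (Subtype.ext h)

theorem cent_T {a : Fi22} (ha : a ∈ TT) {x : Fi22} (hx : x * a = a * x) : orderOf x ≤ 72 := by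
  have hfin := fin22
  obtain ⟨π, -, hk, -⟩ := exists_ext ha
  have hx' : x ∈ centralizer ({a} : Set Fi22) := mem_centralizer_singleton_iff.2 hx
  have h1 := order_le_hom π (k := 2) (by
    intro g hg
    apply Subtype.ext
    rcases (hk g).1 hg with h | h
    · show (g : Fi22) ^ 2 = 1
      rw [h, one_pow]
    · show (g : Fi22) ^ 2 = 1
      rw [h, pow_two, H647.SpF.Fi22.ctx0.sq a ha]) (by norm_num) (x := ⟨x, hx'⟩) (orderOf_pos _) (psu6 _)
  rwa [Subgroup.orderOf_mk] at h1

/-- the 2-elements of the centralizer of a transposition -/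
theorem two_cent {a : Fi22} (ha : a ∈ TT) {x : Fi22} (hx : x * a = a * x) {k : ℕ} (hk : x ^ 2 ^ k = 1) :
    x ^ 8 = 1 ∨ x ^ 8 = a := by
  obtain ⟨π, -, hker, -⟩ := exists_ext ha
  have hx' : x ∈ centralizer ({a} : Set Fi22) := mem_centralizer_singleton_iff.2 hx
  have h1 : π ⟨x, hx'⟩ ^ 2 ^ k = 1 := by
    rw [← map_pow, show (⟨x, hx'⟩ : ↥(centralizer ({a} : Set Fi22))) ^ 2 ^ k = 1 from Subtype.ext hk, map_one]
  have : Fact (Nat.Prime 2) := ⟨Nat.prime_two⟩
  have : CharP F4 2 := charP_of_card_eq_prime_pow (f := 2) hF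
  have h2 := PSU_pow 2 (e := 3) h1 (by norm_num)
  rw [← map_pow, hker] at h2
  exact h2

/-- **The 2-elements of `Fi22`.** -/
theorem two22 {x : Fi22} {k : ℕ} (hk : x ^ 2 ^ k = 1) : x ^ 16 = 1 := by
  have hfin := fin22
  have C := H647.SpF.Fi22.ctx0
  obtain ⟨a, ha⟩ : ∃ a, a ∈ TT := by
    have h1 := C.ncard
    by_contra hcon
    push Not at hcon
    rw [Set.eq_empty_of_forall_notMem hcon, Set.ncard_empty] at h1
    norm_num at h1
  have hidx : (centralizer ({a} : Set Fi22)).index = 3510 := by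
    have h1 := (centralizer ({a} : Set Fi22)).card_mul_index
    rw [C.card_cent ha, C.card] at h1
    omega
  obtain ⟨g, hg⟩ := exists_conj_pow Nat.prime_two (centralizer ({a} : Set Fi22)) (e := 1) (by rw [hidx]; norm_num) hk
  have hg' := mem_centralizer_singleton_iff.1 hg
  rw [pow_one, ← conj_pow] at hg'
  generalize hy : g * x * g⁻¹ = y at hg'
  have hyk : y ^ 2 ^ k = 1 := by rw [← hy, conj_pow, hk, mul_one, mul_inv_cancel]
  have hy16 : y ^ 16 = 1 := by
    have h1 : (y ^ 2) ^ 2 ^ k = 1 := by rw [← pow_mul, mul_comm, pow_mul, hyk, one_pow]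
    rcases two_cent ha hg' h1 with h2 | h2
    · rw [← pow_mul] at h2
      exact h2
    · rw [← pow_mul] at h2
      have h3 : y * a = a * y := by rw [← h2, ← pow_succ, ← pow_succ']
      rcases two_cent ha h3 hyk with h4 | h4
      · rw [show (16 : ℕ) = 8 * 2 by norm_num, pow_mul, h4, one_pow]
      · rw [show (16 : ℕ) = 8 * 2 by norm_num, pow_mul, h4, pow_two, C.sq a ha]
  rw [← hy, conj_pow] at hy16
  have h4 : g * x ^ 16 = g := by simpa using mul_inv_eq_one.1 hy16
  exact mul_eq_left.1 h4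

/-- **The indices of the proper subgroups of `Fi22`.** -/
theorem MI_Fi22 : MI Fi22 1344 := by
  have C := H647.SpF.Fi22.ctx0
  have hfin := C.finite
  obtain ⟨a, ha⟩ : ∃ a, a ∈ TT := by
    have h1 := C.ncard
    by_contra hcon
    push Not at hcon
    rw [Set.eq_empty_of_forall_notMem hcon, Set.ncard_empty] at h1
    norm_num at h1
  obtain ⟨π', lift, B⟩ := exists_base ha
  have hs : IsSimpleGroup Fi22 := B.simple
  obtain ⟨π, hs, hk, hp⟩ := exists_ext ha
  refine MI_double (n := 672) MI_psu6 hp π hs ?_ (centralizer ({a} : Set Fi22)).subtype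
    (z := ⟨a, mem_centralizer_singleton_iff.2 rfl⟩) ?_ ?_
  · intro x hx
    rw [MonoidHom.mem_ker, hk] at hx
    rw [mem_center_iff]
    intro g
    apply Subtype.ext
    rcases hx with h | h
    · show (g : Fi22) * x = x * g
      rw [h, one_mul, mul_one]
    · show (g : Fi22) * x = x * g
      rw [h]
      exact mem_centralizer_singleton_iff.1 g.2
  · rw [hk]
    exact Or.inr rfl
  · exact C.ne1 a ha

/-! ### The third class of involutions -/

theorem hexad_case {a b c : Fi22} (h1 : R01.FiFusion.Tri Cfsg.Agent.R08.AutT.T a b c) {x : Fi22}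
    (hx : x * (a * b * c) = a * b * c * x) : ∃ j j' : ℕ, (0 < j ∧ j ≤ 6) ∧ (0 < j' ∧ j' ≤ 2) ∧
      x ^ (j * j') ∈ centralizer ({a} : Set Fi22) ⊓ centralizer ({b} : Set Fi22) ⊓ centralizer ({c} : Set Fi22) := by
  have C := H647.SpF.Fi22.ctx0
  have hfin := C.finite
  have Fa := Cfsg.Agent.R08.AutT.tFacts
  obtain ⟨a', b', c', H⟩ := Fa.hex a b c h1
  have haT := h1.mx
  have hbT := h1.my
  -- the orbit of `a` under `C(w)` is contained in the hexad
  have key : ∀ g ∈ centralizer ({a * b * c} : Set Spor.Fi22),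
      g * a * g⁻¹ ∈ ({a, b, c, a', b', c'} : Set Spor.Fi22) := by
    intro g hg
    have hg' := mem_centralizer_singleton_iff.1 hg
    by_contra hcon
    simp only [Set.mem_insert_iff, Set.mem_singleton_iff, not_or] at hcon
    obtain ⟨n1, n2, n3, n4, n5, n6⟩ := hcon
    have tri := fun (t : Spor.Fi22) (htT : t ∈ Cfsg.Agent.R08.AutT.T) =>
      Cfsg.Agent.OddHalf.D4.Spor.Fi22.comm_tri Cfsg.Agent.StdFi22.MainFi22.bas h1 htT
    have aw : a * (a * b * c) = a * b * c * a := by
      calc a * (a * b * c) = a * (a * (b * c)) := by group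
        _ = a * (a * (c * b)) := by rw [h1.cyw]
        _ = a * ((a * c) * b) := by group
        _ = a * ((c * a) * b) := by rw [h1.cxw]
        _ = (a * c) * (a * b) := by group
        _ = (a * c) * (b * a) := by rw [h1.cxy]
        _ = a * (c * b) * a := by group
        _ = a * (b * c) * a := by rw [h1.cyw]
        _ = _ := by group
    have gc : g⁻¹ * (a * b * c) = a * b * c * g⁻¹ := by
      calc g⁻¹ * (a * b * c) = g⁻¹ * (a * b * c * g) * g⁻¹ := by group
        _ = g⁻¹ * (g * (a * b * c)) * g⁻¹ := by rw [hg']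
        _ = _ := by group
    have xw : g * a * g⁻¹ * (a * b * c) = a * b * c * (g * a * g⁻¹) := by
      calc g * a * g⁻¹ * (a * b * c) = g * a * (g⁻¹ * (a * b * c)) := by group
        _ = g * (a * (a * b * c)) * g⁻¹ := by rw [gc]; group
        _ = g * (a * b * c) * a * g⁻¹ := by rw [aw]; group
        _ = _ := by rw [hg']; group
    have xT : g * a * g⁻¹ ∈ Cfsg.Agent.R08.AutT.T := C.conj a haT g
    obtain ⟨xa, xb, xc⟩ := tri _ xT xw
    obtain ⟨t, htT, ta, tb, tc, tn⟩ := Cfsg.Agent.OddHalf.D4.Spor.Fi22.exists_ncomm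
      Cfsg.Agent.StdFi22.MainFi22.bas H xT xa xb xc n1 n2 n3 n4 n5 n6
    apply tn
    -- `t ^ (g⁻¹)` commutes with `w`, hence with `a`
    have tw : t * (a * b * c) = a * b * c * t := by
      calc t * (a * b * c) = t * a * b * c := by group
        _ = a * (t * b) * c := by rw [ta]; group
        _ = a * b * (t * c) := by rw [tb]; group
        _ = _ := by rw [tc]; group
    have k1 : g⁻¹ * t * g ∈ Cfsg.Agent.R08.AutT.T := by
      have := C.conj t htT g⁻¹
      rwa [inv_inv] at this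
    have k2 : g⁻¹ * t * g * (a * b * c) = a * b * c * (g⁻¹ * t * g) := by
      calc g⁻¹ * t * g * (a * b * c) = g⁻¹ * t * (g * (a * b * c)) := by group
        _ = g⁻¹ * (t * (a * b * c)) * g := by rw [hg']; group
        _ = (g⁻¹ * (a * b * c)) * t * g := by rw [tw]; group
        _ = _ := by rw [gc]; group
    have k3 := (tri _ k1 k2).1
    calc t * (g * a * g⁻¹) = g * ((g⁻¹ * t * g) * a) * g⁻¹ := by group
      _ = g * (a * (g⁻¹ * t * g)) * g⁻¹ := by rw [k3]
      _ = _ := by group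
  have h6 : ({a, b, c, a', b', c'} : Set Spor.Fi22).ncard ≤ 6 := by
    refine (Set.ncard_insert_le _ _).trans (Nat.succ_le_succ ?_)
    refine (Set.ncard_insert_le _ _).trans (Nat.succ_le_succ ?_)
    refine (Set.ncard_insert_le _ _).trans (Nat.succ_le_succ ?_)
    refine (Set.ncard_insert_le _ _).trans (Nat.succ_le_succ ?_)
    refine (Set.ncard_insert_le _ _).trans (Nat.succ_le_succ ?_)
    rw [Set.ncard_singleton]
  have hxw : x ∈ centralizer ({a * b * c} : Set Spor.Fi22) := mem_centralizer_singleton_iff.2 hx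
  have orb : ∀ (K : Subgroup Fi22) (d : Fi22) (S : Set Fi22) (N : ℕ), S.ncard ≤ N → (∀ g ∈ K, g * d * g⁻¹ ∈ S) →
      ∀ z ∈ K, ∃ j, 0 < j ∧ j ≤ N ∧ z ^ j * d = d * z ^ j := by
    intro K d S N hN hS z hz
    refine exists_pow_comm (S := {s | ∃ g ∈ K, s = g * d * g⁻¹}) (Set.toFinite _) ?_ ?_ ?_
    · rintro _ ⟨g, hg, rfl⟩
      exact ⟨z * g, mul_mem hz hg, by group⟩
    · exact ⟨1, one_mem _, by group⟩
    · refine (Set.ncard_le_ncard ?_ (Set.toFinite _)).trans hN
      rintro _ ⟨g, hg, rfl⟩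
      exact hS g hg
  obtain ⟨j, hj0, hj, hja⟩ := orb _ a _ 6 h6 key x hxw
  have key2 : ∀ g ∈ centralizer ({a * b * c} : Set Spor.Fi22) ⊓ centralizer ({a} : Set Spor.Fi22),
      g * b * g⁻¹ ∈ ({b, c} : Set Spor.Fi22) := by
    rintro g ⟨hg, hga⟩
    have hg' := mem_centralizer_singleton_iff.1 hg
    have hga' := mem_centralizer_singleton_iff.1 hga
    have h2 : g * (b * c) = b * c * g := by
      have h3 : a * (g * (b * c)) = a * (b * c * g) := by
        calc a * (g * (b * c)) = (g * a) * (b * c) := by rw [hga']; group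
          _ = g * (a * b * c) := by group
          _ = _ := by rw [hg']; group
      exact mul_left_cancel h3
    rcases C.cz b h1.my c h1.mw h1.yw h1.cyw g h2 with ⟨h, -⟩ | ⟨h, -⟩
    · exact Or.inl (mul_inv_eq_iff_eq_mul.2 h)
    · exact Or.inr h
  have hmem : x ^ j ∈ centralizer ({a * b * c} : Set Spor.Fi22) ⊓ centralizer ({a} : Set Spor.Fi22) :=
    ⟨pow_mem hxw j, mem_centralizer_singleton_iff.2 hja⟩
  obtain ⟨j', hj0', hj', hjb⟩ := orb _ b _ 2 ((Set.ncard_insert_le _ _).trans (by rw [Set.ncard_singleton])) key2 _ hmem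
  refine ⟨j, j', ⟨hj0, hj⟩, ⟨hj0', hj'⟩, ?_⟩
  rw [pow_mul]
  have hle : centralizer ({a * b * c} : Set Spor.Fi22) ⊓ centralizer ({a} : Set Spor.Fi22) ⊓
      centralizer ({b} : Set Spor.Fi22) ≤ centralizer ({a} : Set Spor.Fi22) ⊓ centralizer ({b} : Set Spor.Fi22) ⊓
      centralizer ({c} : Set Spor.Fi22) := by
    rintro g ⟨⟨hg, hga⟩, hgb⟩
    have hg' := mem_centralizer_singleton_iff.1 hg
    have hga' := mem_centralizer_singleton_iff.1 hga
    have hgb' := mem_centralizer_singleton_iff.1 hgb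
    refine ⟨⟨hga, hgb⟩, mem_centralizer_singleton_iff.2 ?_⟩
    have h3 : a * b * (g * c) = a * b * (c * g) := by
      calc a * b * (g * c) = a * (g * b) * c := by rw [hgb']; group
        _ = (g * a) * b * c := by rw [hga']; group
        _ = g * (a * b * c) := by group
        _ = _ := by rw [hg']; group
    exact mul_left_cancel h3
  apply hle
  exact ⟨pow_mem hmem j', mem_centralizer_singleton_iff.2 hjb⟩

theorem hexad_dvd {a b c : Fi22} (h1 : R01.FiFusion.Tri Cfsg.Agent.R08.AutT.T a b c) {x : Fi22}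
    (hx : x * (a * b * c) = a * b * c * x) : orderOf x ∣ 120 * 147456 := by
  have C := H647.SpF.Fi22.ctx0
  have hfin := C.finite
  obtain ⟨j, j', ⟨hj0, hj⟩, ⟨hj0', hj'⟩, hm⟩ := hexad_case h1 hx
  have h2 := orderOf_dvd_natCard (⟨_, hm⟩ : ↥(centralizer ({a} : Set Fi22) ⊓ centralizer ({b} : Set Fi22) ⊓
    centralizer ({c} : Set Fi22)))
  rw [H647.SpF.Fi22.card_cent_tri C Cfsg.Agent.R08.AutT.tFacts h1, Subgroup.orderOf_mk] at h2
  have h3 : orderOf x ∣ (j * j') * orderOf (x ^ (j * j')) := by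
    apply orderOf_dvd_of_pow_eq_one
    rw [pow_mul, pow_orderOf_eq_one]
  refine h3.trans (Nat.mul_dvd_mul ?_ h2)
  interval_cases j <;> interval_cases j' <;> norm_num

/-! ### Lifting to `Fi24` -/

theorem exists_lift (x : Fi22) : ∃ X : Fi24, orderOf x ∣ orderOf X ∧ orderOf X ∣ 2 * orderOf x := by
  obtain ⟨π, hs, hk, -⟩ := R08.FiTwentyFour.loc (R08.FiTwentyFour.gen_mem_L .l) Odd24.bb_mem Odd24.l_ne_bb Odd24.l_bb
  obtain ⟨X, rfl⟩ := hs x
  refine ⟨(X : Fi24), ?_, ?_⟩
  · rw [Subgroup.orderOf_coe]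
    exact orderOf_map_dvd π X
  · apply orderOf_dvd_of_pow_eq_one
    have h1 : π (X ^ orderOf (π X)) = 1 := by rw [map_pow, pow_orderOf_eq_one]
    rw [mul_comm, pow_mul]
    rcases (hk _).1 h1 with h | h
    · have h' : (X : Fi24) ^ orderOf (π X) = 1 := h
      rw [h', one_pow]
    · have h' : (X : Fi24) ^ orderOf (π X) = Fischer.Fi24Rep.gen .l * Odd24.bb := h
      rw [h', Odd24.l_bb.mul_pow, pow_two, pow_two, Fischer.Fi24Final.gen_sq, R08.FiTwentyFour.sq Odd24.bb_mem, one_mul]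

theorem five22 {x : Fi22} (h : 5 ∣ orderOf x) : orderOf x ≤ 100 := by
  have hfin := R08.FiTwentyFour.finite_Fi24
  obtain ⟨X, h1, -⟩ := exists_lift x
  exact (Nat.le_of_dvd (orderOf_pos _) h1).trans (Odd24.five (h.trans h1))

theorem odd22 {x : Fi22} (h : ¬ 2 ∣ orderOf x) : orderOf x ≤ 195 := by
  have hfin := R08.FiTwentyFour.finite_Fi24
  have hfin2 := fin22
  have hcop : Nat.Coprime 2 (orderOf x) := (Nat.Prime.coprime_iff_not_dvd Nat.prime_two).2 h
  obtain ⟨X, h1, h2⟩ := exists_lift x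
  have h3 : orderOf (X ^ 2) = orderOf x := by
    apply Nat.dvd_antisymm
    · apply orderOf_dvd_of_pow_eq_one
      rw [← pow_mul]
      exact orderOf_dvd_iff_pow_eq_one.1 h2
    · have h4 : orderOf X ∣ 2 * orderOf (X ^ 2) := by
        apply orderOf_dvd_of_pow_eq_one
        rw [pow_mul, pow_orderOf_eq_one]
      exact hcop.symm.dvd_of_dvd_mul_left (h1.trans h4)
  rcases Odd24.odd24 (x := X ^ 2) (by rwa [h3]) with h4 | h4
  · rwa [h3] at h4
  · rw [h3] at h4
    have h5 : (x ^ 7) ^ 3 ^ 16 = 1 := by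
      rw [← pow_mul]
      exact orderOf_dvd_iff_pow_eq_one.1 h4
    have h6 := Three24.three22 h5
    rw [← pow_mul] at h6
    exact (Nat.le_of_dvd (by norm_num) (orderOf_dvd_of_pow_eq_one h6)).trans (by norm_num)

/-! ### The bound -/

theorem exists_inv {G : Type*} [Group G] [Finite G] {x : G} (h : 2 ∣ orderOf x) : ∃ w : G, w * w = 1 ∧ w ≠ 1 ∧
    x * w = w * x := by
  obtain ⟨m, hm⟩ := h
  have hx0 : 0 < orderOf x := orderOf_pos x
  refine ⟨x ^ m, ?_, ?_, ?_⟩
  · rw [← pow_add, ← two_mul, ← hm, pow_orderOf_eq_one]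
  · intro h1
    have h2 := Nat.le_of_dvd (by omega) (orderOf_dvd_of_pow_eq_one h1)
    omega
  · rw [← pow_succ, ← pow_succ']

/-- **The elements of `Fi22` have order at most 195.** -/
theorem max22 (x : Fi22) : orderOf x ≤ 195 := by
  have C := H647.SpF.Fi22.ctx0
  have hfin := C.finite
  by_cases h2 : 2 ∣ orderOf x
  swap
  · exact odd22 h2
  by_cases h5 : 5 ∣ orderOf x
  · exact (five22 h5).trans (by norm_num)
  obtain ⟨w, hw, hw1, hxw⟩ := exists_inv h2
  rcases Cfsg.Agent.OddHalf.D4.Spor.Fi22.inv_cases hw hw1 with h1 | ⟨a, ha, b, hb, hab, cab, rfl⟩ | ⟨a, b, c, h1, rfl⟩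
  · exact (cent_T h1 hxw).trans (by norm_num)
  · have h3 : x ^ 2 * a = a * x ^ 2 := by
      rcases C.cz a ha b hb hab cab x hxw with ⟨h, -⟩ | ⟨h, h'⟩
      · exact ((show Commute x a from h).pow_left 2).eq
      · rw [← mul_inv_eq_iff_eq_mul, pow_two]
        calc x * x * a * (x * x)⁻¹ = x * (x * a * x⁻¹) * x⁻¹ := by group
          _ = a := by rw [h, h']
    have h4 := order_le_pow (x := x) (k := 2) (by norm_num) (orderOf_pos _) (cent_T ha h3)
    exact h4.trans (by norm_num)
  · have h3 := hexad_dvd h1 hxw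
    have h4 : orderOf x ∣ 5 * (2 ^ 17 * 27) := by
      refine h3.trans ?_
      norm_num
    have h5' : orderOf x ∣ 2 ^ 17 * 27 :=
      (((Nat.Prime.coprime_iff_not_dvd (by norm_num : Nat.Prime 5)).2 h5).symm).dvd_of_dvd_mul_left h4
    have h6 : (x ^ 27) ^ 2 ^ 17 = 1 := by
      rw [← pow_mul, mul_comm]
      exact orderOf_dvd_iff_pow_eq_one.1 h5'
    have h7 : (x ^ 16) ^ 3 ^ 3 = 1 := by
      have := two22 h6
      rw [← pow_mul] at this ⊢
      rw [mul_comm]
      exact this
    have h8 := Three24.three22 h7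
    rw [← pow_mul] at h8
    exact (Nat.le_of_dvd (by norm_num) (orderOf_dvd_of_pow_eq_one h8)).trans (by norm_num)

end Cfsg.Agent.H842.Cyc.Fi22
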