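import Cfsg.Agent.H199.AbExt
import Cfsg.Agent.H842.Cyc.Unip

/-!
# Permutation representations of a group with a large extraspecial subgroup (helper842, task 2967 of S3507)

* `orbits_fixed`: a group acting on the orbits of a normal subgroup;
* `ext_idx`: `R` normal of order `2 ^ 13`, `R / ⟨z⟩` irreducible, `MI (X / R) 64`: the involution `z` acts trivially on each
  set with less than `8192` elements.
-/

set_option autoImplicit false

namespace Cfsg.Agent.H842.Cyc

open Subgroup MulAction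
open Cfsg.Agent.H867.MinIdx

universe u v w

section

variable {X : Type u} [Group X]

/-- A group acting on the orbits of a normal subgroup. -/
theorem orbits_fixed {n : ℕ} (R : Subgroup X) [hR : R.Normal] (h : MI (X ⧸ R) n)
    {Ω : Type w} [Finite Ω] [MulAction X Ω] (hc : Nat.card (orbitRel.Quotient ↥R Ω) < n) (x : X) (i : Ω) :
    ∃ r ∈ R, r • i = x • i := by
  classical
  let S : Setoid Ω := MulAction.orbitRel ↥R Ω
  have hS : ∀ i j : Ω, S.r i j ↔ ∃ z ∈ R, z • j = i := by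
    intro i j
    constructor
    · rintro ⟨⟨z, hz⟩, hzj⟩
      exact ⟨z, hz, hzj⟩
    · rintro ⟨z, hz, hzj⟩
      exact ⟨⟨z, hz⟩, hzj⟩
  have hcompat : ∀ (x : X) (i j : Ω), S.r i j → S.r (x • i) (x • j) := by
    intro x i j hij
    obtain ⟨z, hz, rfl⟩ := (hS i j).1 hij
    refine (hS _ _).2 ⟨x * z * x⁻¹, hR.conj_mem z hz x, ?_⟩
    rw [smul_smul, smul_smul, inv_mul_cancel_right]
  let _ : MulAction X (Quotient S) :=
    { smul := fun x => Quotient.map (fun i => x • i) (fun i j hij => hcompat x i j hij)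
      one_smul := fun q => Quotient.inductionOn q fun i => congrArg (Quotient.mk S) (one_smul X i)
      mul_smul := fun x y q => Quotient.inductionOn q fun i =>
        congrArg (Quotient.mk S) (mul_smul x y i) }
  let act : X →* Equiv.Perm (Quotient S) := toPermHom X (Quotient S)
  have hactmk : ∀ (x : X) (i : Ω), act x (⟦i⟧ : Quotient S) = ⟦x • i⟧ := fun x i => rfl
  have hker : ∀ z ∈ R, act z = 1 := by
    intro z hz
    ext q
    refine Quotient.inductionOn q fun i => ?_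
    rw [hactmk]
    show (⟦z • i⟧ : Quotient S) = ⟦i⟧
    exact Quotient.sound ((hS _ _).2 ⟨z, hz, rfl⟩)
  let g : X ⧸ R →* Equiv.Perm (Quotient S) := QuotientGroup.lift R act hker
  have hg : ∀ x : X, g (x : X ⧸ R) = act x := fun x => QuotientGroup.lift_mk' _ _ _
  let _ : MulAction (X ⧸ R) (Quotient S) := MulAction.compHom (Quotient S) g
  have hcardQ : Nat.card (Quotient S) < n := hc
  have h1 := h.of_finite hcardQ (x : X ⧸ R) (⟦i⟧ : Quotient S)
  have h2 : (x : X ⧸ R) • (⟦i⟧ : Quotient S) = act x ⟦i⟧ := by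
    show g (x : X ⧸ R) ⟦i⟧ = _
    rw [hg]
  rw [h2, hactmk] at h1
  exact (hS _ _).1 (Quotient.exact h1)

theorem mul_card_le {Z : Type u} [Group Z] {Ω : Type w} [Finite Ω] [MulAction Z Ω] {k : ℕ}
    (hk : ∀ i : Ω, k ≤ Nat.card (orbit Z i)) : k * Nat.card (orbitRel.Quotient Z Ω) ≤ Nat.card Ω := by
  classical
  have := Fintype.ofFinite (orbitRel.Quotient Z Ω)
  have h1 : Nat.card Ω = ∑ q : orbitRel.Quotient Z Ω, Nat.card q.orbit := by
    rw [Nat.card_congr (selfEquivSigmaOrbits' Z Ω), Nat.card_sigma]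
  rw [h1, Nat.card_eq_fintype_card, mul_comm]
  have h2 := Finset.card_nsmul_le_sum (Finset.univ : Finset (orbitRel.Quotient Z Ω)) (fun q => Nat.card q.orbit) k (by
    intro q _
    obtain ⟨a, rfl⟩ := Quotient.exists_rep q
    exact hk a)
  simpa using h2

theorem ext_idx [Finite X] (R : Subgroup X) [hR : R.Normal] {z : X} (zR : z ∈ R) (z1 : z ≠ 1) (zz : z * z = 1)
    (hz : ∀ g : X, g * z = z * g) (com : ∀ r ∈ R, ∀ s ∈ R, r * s = s * r ∨ r * s = z * (s * r))
    (ctr : ∀ r ∈ R, (∀ s ∈ R, s * r = r * s) → r = 1 ∨ r = z) (cardR : Nat.card ↥R = 8192)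
    (irr : ∀ B : Subgroup X, B ≤ R → (∀ g : X, ∀ b ∈ B, g * b * g⁻¹ ∈ B) → (∀ b ∈ B, b = 1 ∨ b = z) ∨ B = R)
    (h : MI (X ⧸ R) 64) {Ω : Type w} [Finite Ω] [MulAction X Ω] (hΩ : Nat.card Ω < 8192) (i : Ω) : z • i = i := by
  classical
  by_contra hi
  -- the points moved by `z`
  let Ω' : Type w := {j : Ω // z • j ≠ j}
  have hmv : ∀ (x : X) (j : Ω), z • j ≠ j → z • (x • j) ≠ x • j := by
    intro x j hj h1
    apply hj
    rw [smul_smul, ← hz x, ← smul_smul] at h1
    exact smul_left_cancel x h1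
  let _ : MulAction X Ω' :=
    { smul := fun x j => ⟨x • (j : Ω), hmv x j j.2⟩
      one_smul := fun j => Subtype.ext (one_smul X (j : Ω))
      mul_smul := fun x y j => Subtype.ext (mul_smul x y (j : Ω)) }
  have hcoe : ∀ (x : X) (j : Ω'), ((x • j : Ω') : Ω) = x • (j : Ω) := fun _ _ => rfl
  have hzj : ∀ j : Ω', z • j ≠ j := fun j h1 => j.2 (congrArg Subtype.val h1)
  have hΩ' : Nat.card Ω' < 8192 := (Nat.card_le_card_of_injective _ Subtype.val_injective).trans_lt hΩ
  -- the involution of `R`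
  have hoz : Nat.card ↥(zpowers (⟨z, zR⟩ : ↥R)) = 2 := by
    rw [Nat.card_zpowers]
    have : Fact (Nat.Prime 2) := ⟨Nat.prime_two⟩
    apply orderOf_eq_prime
    · apply Subtype.ext
      show z ^ 2 = 1
      rw [pow_two, zz]
    · intro h1
      exact z1 (congrArg Subtype.val h1)
  have hzp : ∀ y ∈ zpowers (⟨z, zR⟩ : ↥R), y = 1 ∨ y = ⟨z, zR⟩ := by
    intro y hy
    obtain ⟨k, rfl⟩ := mem_zpowers_iff.1 hy
    have h2 : (⟨z, zR⟩ : ↥R) ^ (2 : ℤ) = 1 := by
      apply Subtype.ext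
      show z ^ (2 : ℤ) = 1
      rw [zpow_two, zz]
    rcases Int.even_or_odd' k with ⟨m, rfl | rfl⟩
    · left
      rw [zpow_mul, h2, one_zpow]
    · right
      rw [zpow_add, zpow_mul, h2, one_zpow, one_mul, zpow_one]
  -- the stabilizers
  have hstab : ∀ j : Ω', stabilizer ↥R j ⊓ zpowers (⟨z, zR⟩ : ↥R) = ⊥ := by
    intro j
    rw [eq_bot_iff]
    rintro y ⟨hy, hyz⟩
    rcases hzp y hyz with rfl | rfl
    · exact one_mem _
    · exact absurd (mem_stabilizer_iff.1 hy) (hzj j)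
  have hcen : ∀ (j : Ω'), ∀ s ∈ stabilizer ↥R j, ∀ y ∈ zpowers (⟨z, zR⟩ : ↥R), s * y = y * s := by
    intro j s _ y hy
    rcases hzp y hy with rfl | rfl
    · rw [mul_one, one_mul]
    · exact Subtype.ext (hz s)
  have hcomm : ∀ (j : Ω'), ∀ a ∈ stabilizer ↥R j, ∀ b ∈ stabilizer ↥R j, a * b = b * a := by
    intro j a ha b hb
    rcases com a a.2 b b.2 with h1 | h1
    · exact Subtype.ext h1
    · exfalso
      have h2 : a * b = ⟨z, zR⟩ * (b * a) := Subtype.ext h1
      have h3 : (⟨z, zR⟩ : ↥R) = a * b * (b * a)⁻¹ := by rw [h2, mul_inv_cancel_right]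
      have h4 : (⟨z, zR⟩ : ↥R) ∈ stabilizer ↥R j := by
        rw [h3]
        exact mul_mem (mul_mem ha hb) (inv_mem (mul_mem hb ha))
      exact absurd (mem_stabilizer_iff.1 h4) (hzj j)
  have hmem : ∀ (j : Ω') (b : ↥R), b ∈ stabilizer ↥R j ⊔ zpowers (⟨z, zR⟩ : ↥R) →
      ∃ s ∈ stabilizer ↥R j, b = s ∨ b = s * ⟨z, zR⟩ := by
    intro j b hb
    have h1 : zpowers (⟨z, zR⟩ : ↥R) ≤ normalizer (stabilizer ↥R j : Set ↥R) := by
      refine le_trans ?_ (centralizer_le_normalizer _)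
      intro y hy
      rw [mem_centralizer_iff]
      intro s hs
      exact hcen j s hs y hy
    have h2 : b ∈ ((stabilizer ↥R j ⊔ zpowers (⟨z, zR⟩ : ↥R) : Subgroup ↥R) : Set ↥R) := hb
    rw [coe_mul_of_right_le_normalizer_left _ _ h1] at h2
    obtain ⟨s, hs, y, hy, rfl⟩ := Set.mem_mul.1 h2
    rcases hzp y hy with rfl | rfl
    · exact ⟨s, hs, Or.inl (mul_one s)⟩
    · exact ⟨s, hs, Or.inr rfl⟩
  have hab : ∀ (j : Ω'), ∀ a ∈ stabilizer ↥R j ⊔ zpowers (⟨z, zR⟩ : ↥R), ∀ b ∈ stabilizer ↥R j ⊔ zpowers (⟨z, zR⟩ : ↥R),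
      a * b = b * a := by
    intro j a ha b hb
    obtain ⟨s, hs, h1⟩ := hmem j a ha
    obtain ⟨t, ht, h2⟩ := hmem j b hb
    have hst : Commute s t := hcomm j s hs t ht
    have hzs : ∀ y : ↥R, Commute y ⟨z, zR⟩ := fun y => Subtype.ext (hz y)
    have e1 : Commute a t := by
      rcases h1 with rfl | rfl
      · exact hst
      · exact hst.mul_left (hzs t).symm
    rcases h2 with rfl | rfl
    · exact e1.eq
    · exact (e1.mul_right (hzs a)).eq
  -- the bound for the abelian subgroups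
  have hbd : ∀ j : Ω', Nat.card ↥(stabilizer ↥R j) * 2 ≤ 128 := by
    intro j
    have h1 := H199.AbExt.bound_type (R := ↥R) (z := ⟨z, zR⟩) (Subtype.ext zz) (fun r => Subtype.ext (hz r))
      (fun r s => by
        rcases com r r.2 s s.2 with h | h
        · exact Or.inl (Subtype.ext h)
        · exact Or.inr (Subtype.ext h))
      (fun r hr => by
        rcases ctr r r.2 (fun s hs => (congrArg Subtype.val (hr ⟨s, hs⟩)).symm) with h | h
        · exact Or.inl (Subtype.ext h)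
        · exact Or.inr (Subtype.ext h)) (stabilizer ↥R j ⊔ zpowers (⟨z, zR⟩ : ↥R)) (hab j)
    rw [card_sup_of_commute (hstab j) (hcen j), hoz, cardR] at h1
    by_contra hlt
    push Not at hlt
    have h2 : 129 * 129 ≤ (Nat.card ↥(stabilizer ↥R j) * 2) ^ 2 := by
      rw [pow_two]
      exact Nat.mul_le_mul hlt hlt
    omega
  have horb : ∀ j : Ω', Nat.card ↥(stabilizer ↥R j) * Nat.card (orbit ↥R j) = 8192 := by
    intro j
    rw [← cardR, ← (stabilizer ↥R j).card_mul_index, MulAction.index_stabilizer, Nat.card_coe_set_eq]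
  -- the number of orbits
  have hcard : Nat.card (orbitRel.Quotient ↥R Ω') < 64 := by
    have h1 := mul_card_le (Z := ↥R) (Ω := Ω') (k := 128) (by
      intro j
      have h2 := hbd j
      have h3 := horb j
      by_contra hlt
      push Not at hlt
      have h4 : Nat.card ↥(stabilizer ↥R j) * Nat.card (orbit ↥R j) ≤ 64 * 127 :=
        Nat.mul_le_mul (by omega) (by omega)
      omega)
    omega
  -- the subgroup `B` for the point `i`
  let j : Ω' := ⟨i, hi⟩
  let B : Subgroup X := (stabilizer ↥R j ⊔ zpowers (⟨z, zR⟩ : ↥R)).map R.subtype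
  have hBmem : ∀ s : ↥R, s • j = j → (s : X) ∈ B ∧ (s : X) * z ∈ B := by
    intro s hs
    have h1 : s ∈ stabilizer ↥R j := hs
    refine ⟨⟨s, mem_sup_left h1, rfl⟩, ⟨s * ⟨z, zR⟩, mul_mem (mem_sup_left h1) (mem_sup_right (mem_zpowers _)), rfl⟩⟩
  have hBn : ∀ g : X, ∀ b ∈ B, g * b * g⁻¹ ∈ B := by
    rintro g _ ⟨b, hb, rfl⟩
    obtain ⟨r, hr, hrj⟩ := orbits_fixed R h hcard g j
    obtain ⟨s, hs, hsb⟩ := hmem j b hb
    -- `r⁻¹ (g s g⁻¹) r` fixes `j`
    have hgs : g * (s : X) * g⁻¹ ∈ R := hR.conj_mem s s.2 g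
    let s' : ↥R := ⟨r⁻¹ * (g * (s : X) * g⁻¹) * r, mul_mem (mul_mem (inv_mem hr) hgs) hr⟩
    have hs' : s' • j = j := by
      show (r⁻¹ * (g * (s : X) * g⁻¹) * r) • j = j
      have h5 : (s : X) • j = j := mem_stabilizer_iff.1 hs
      rw [← smul_smul, hrj, smul_smul, mul_assoc r⁻¹, inv_mul_cancel_right, ← smul_smul, ← smul_smul, h5, ← hrj,
        smul_smul, inv_mul_cancel, one_smul]
    have h6 := hBmem s' hs'
    -- `g s g⁻¹ = r s' r⁻¹`, which is `s'` or `z s'`
    have h7 : g * (s : X) * g⁻¹ = r * (s' : X) * r⁻¹ := by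
      show _ = r * (r⁻¹ * (g * (s : X) * g⁻¹) * r) * r⁻¹
      group
    have h8 : g * (s : X) * g⁻¹ = s' ∨ g * (s : X) * g⁻¹ = (s' : X) * z := by
      rw [h7]
      rcases com r hr s' s'.2 with h9 | h9
      · left
        rw [h9, mul_inv_cancel_right]
      · right
        rw [h9, ← mul_assoc, mul_inv_cancel_right, hz]
    have h9 : g * (s : X) * g⁻¹ ∈ B ∧ g * (s : X) * g⁻¹ * z ∈ B := by
      rcases h8 with h8 | h8
      · rw [h8]; exact h6
      · rw [h8]
        refine ⟨h6.2, ?_⟩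
        rw [mul_assoc, zz, mul_one]
        exact h6.1
    rcases hsb with rfl | rfl
    · exact h9.1
    · show g * ((s : X) * z) * g⁻¹ ∈ B
      have h10 : g * ((s : X) * z) * g⁻¹ = g * (s : X) * g⁻¹ * z := by
        calc g * ((s : X) * z) * g⁻¹ = g * (s : X) * (z * g⁻¹) := by group
          _ = g * (s : X) * (g⁻¹ * z) := by rw [hz]
          _ = _ := by group
      rw [h10]
      exact h9.2
  have hBR : B ≤ R := by
    rintro _ ⟨b, -, rfl⟩
    exact b.2
  have hBc : Nat.card ↥B ≤ 128 := by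
    have h1 : Nat.card ↥B = Nat.card ↥(stabilizer ↥R j ⊔ zpowers (⟨z, zR⟩ : ↥R)) :=
      (Nat.card_congr ((stabilizer ↥R j ⊔ zpowers (⟨z, zR⟩ : ↥R)).equivMapOfInjective R.subtype
        R.subtype_injective).toEquiv).symm
    rw [h1, card_sup_of_commute (hstab j) (hcen j), hoz]
    exact hbd j
  rcases irr B hBR hBn with h1 | h1
  · have h2 : stabilizer ↥R j = ⊥ := by
      rw [eq_bot_iff]
      intro s hs
      rcases h1 s (hBmem s hs).1 with h3 | h3
      · exact Subtype.ext h3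
      · exfalso
        have h4 : s = ⟨z, zR⟩ := Subtype.ext h3
        rw [h4] at hs
        exact hzj j hs
    have h3 := horb j
    rw [h2, Subgroup.card_bot, one_mul] at h3
    have h4 : Nat.card (orbit ↥R j) ≤ Nat.card Ω' := Nat.card_le_card_of_injective _ Subtype.val_injective
    omega
  · rw [h1, cardR] at hBc
    omega

end

end Cfsg.Agent.H842.Cyc
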