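import Cfsg.Agent.H832.FourProd
import Cfsg.Agent.H842.Cyc.Fi22

/-!
# The orders of the elements of `Fi24'` (helper842, task 2967 of S3507)

`max24`: the elements of `Fi24'` have order at most 1701.
-/

set_option autoImplicit false
set_option maxRecDepth 100000

namespace Cfsg.Agent.H842.Cyc.Fi24

open Subgroup Cfsg
open Cfsg.Agent.PreUniq.FiTF.Z Cfsg.Agent.CTwoTab.FiTF Cfsg.Agent.KFacts.FiTF
open Cfsg.Agent.KFacts.FiTF.Defs
open Cfsg.Agent.OrdDiv Cfsg.Agent.CpAut
open Cfsg.Agent.R08.FiTwentyFour (L finite_Fi24)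
open Cfsg.Spor (Fi24)

local notation "Pr" => Cfsg.Agent.R08.TetFi24A.At

/-! ### Two commuting transpositions -/

theorem max_pair {a b : Fi24} (ha : a ∈ L) (hb : b ∈ L) (hne : a ≠ b) (hab : Commute a b) {x : Fi24}
    (hx : x ∈ commutator Fi24) (hxa : Commute x a) (hxb : Commute x b) : orderOf x ≤ 390 := by
  have hfin := finite_Fi24
  obtain ⟨π, -, hk, -⟩ := R08.FiTwentyFour.loc ha hb hne hab
  have hX : x ∈ commutator Fi24 ⊓ Subgroup.centralizer {a, b} := by
    refine Subgroup.mem_inf.2 ⟨hx, ?_⟩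
    rw [mem_centralizer_iff]
    rintro z (rfl | rfl)
    · exact hxa.symm
    · exact hxb.symm
  have h2 : (a * b) ^ 2 = 1 := by
    rw [hab.mul_pow, pow_two, pow_two, R08.FiTwentyFour.sq ha, R08.FiTwentyFour.sq hb, one_mul]
  have hk2 : ∀ z, π z = 1 → z ^ 2 = 1 := by
    intro z hz
    apply Subtype.ext
    rcases (hk z).1 hz with h1 | h1
    · rw [coe_pow, h1, one_pow]; rfl
    · rw [coe_pow, h1, h2]; rfl
  have hfin2 := Fi22.fin22
  have h3 := order_le_hom π hk2 (by norm_num) (x := ⟨x, hX⟩) (orderOf_pos _) (Fi22.max22 _)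
  rwa [Subgroup.orderOf_mk] at h3

theorem max_ab {a b : Fi24} (P : Pr a b) {t x : Spor.Fi24'} (ht : (t : Fi24) = a * b) (hx : x * t = t * x) :
    orderOf x ≤ 780 := by
  have hfin := finite_Fi24
  have h1 := fix_or_swap P ht (x := x) (mem_centralizer_singleton_iff.2 hx)
  have h2 : Commute ((x : Fi24) ^ 2) a ∧ Commute ((x : Fi24) ^ 2) b := by
    rcases h1 with ⟨h1, h2⟩ | ⟨h1, h2⟩
    · exact ⟨(show Commute (x : Fi24) a from mul_inv_eq_iff_eq_mul.1 h1).pow_left 2,
        (show Commute (x : Fi24) b from mul_inv_eq_iff_eq_mul.1 h2).pow_left 2⟩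
    · constructor
      · show (x : Fi24) ^ 2 * a = a * (x : Fi24) ^ 2
        rw [← mul_inv_eq_iff_eq_mul, pow_two]
        calc (x : Fi24) * x * a * ((x : Fi24) * x)⁻¹ = x * (x * a * (x : Fi24)⁻¹) * (x : Fi24)⁻¹ := by group
          _ = a := by rw [h1, h2]
      · show (x : Fi24) ^ 2 * b = b * (x : Fi24) ^ 2
        rw [← mul_inv_eq_iff_eq_mul, pow_two]
        calc (x : Fi24) * x * b * ((x : Fi24) * x)⁻¹ = x * (x * b * (x : Fi24)⁻¹) * (x : Fi24)⁻¹ := by group
          _ = b := by rw [h2, h1]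
  have h3 := max_pair P.ha P.hb P.ne P.ab (pow_mem x.2 2) h2.1 h2.2
  have h4 := order_le_pow (x := (x : Fi24)) (k := 2) (by norm_num) (orderOf_pos _) h3
  rwa [Subgroup.orderOf_coe] at h4

/-! ### The 2-central involution -/

section Cent

variable (T : OrderTable.{0}) (hA : AllKnown.{0})
include T hA

theorem max_S (x : S) : orderOf x ≤ 28 := by
  obtain ⟨F, _, _, hF, ⟨e⟩⟩ := H832.FourProd.exists_psu T hA
  have h := (S2263.result (F := F) 3 1 4 Nat.prime_three le_rfl 3 (by norm_num) hF (by norm_num) (by norm_num)).2.2.1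
    (by decide) (by norm_num)
  have h1 := Fi22.psu_le h.1 (e x)
  rwa [MulEquiv.orderOf_eq] at h1

theorem pow_Zc {g : Fi24} (hg : g ∈ Zc) : g ^ 12 = 1 := by
  have h1 := cube_mem T hA hg
  have h2 : (g ^ 3) ^ 4 = 1 := by
    rcases frame.sq _ h1 with h | h
    · rw [show (4 : ℕ) = 2 * 2 by norm_num, pow_mul, pow_two (g ^ 3), h, one_pow]
    · rw [show (4 : ℕ) = 2 * 2 by norm_num, pow_mul, pow_two (g ^ 3), h, pow_two, frame.zz]
  rw [← pow_mul] at h2
  exact h2

theorem max_E {g : Fi24} (hg : g ∈ E) : orderOf g ≤ 336 := by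
  have hfin := finite_Fi24
  have h1 := order_le_hom (QuotientGroup.mk' (Zc.subgroupOf E)) (k := 12) (by
    intro y hy
    have h2 : y ∈ (QuotientGroup.mk' (Zc.subgroupOf E)).ker := hy
    rw [QuotientGroup.ker_mk', mem_subgroupOf] at h2
    exact Subtype.ext (pow_Zc T hA h2)) (by norm_num) (x := ⟨g, hg⟩) (orderOf_pos _) (max_S T hA _)
  rwa [Subgroup.orderOf_mk] at h1

theorem max_z0 {x : Spor.Fi24'} (hx : x * z0 = z0 * x) : orderOf x ≤ 672 := by
  have hfin := finite_Fi24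
  have hxz : (x : Fi24) * z = z * (x : Fi24) := congrArg Subtype.val hx
  have h1 : (x : Fi24) ^ 2 ∈ E := by
    rw [pow_two]
    by_cases hE : (x : Fi24) ∈ E
    · exact mul_mem hE hE
    · exact mul_mem_E T hA x.2 hxz hE x.2 hxz hE
  have h4 := order_le_pow (x := (x : Fi24)) (k := 2) (by norm_num) (orderOf_pos _) (max_E T hA h1)
  rwa [Subgroup.orderOf_coe] at h4

/-- **The elements of `Fi24'` have order at most 1701.** -/
theorem max24 (x : Spor.Fi24') : orderOf x ≤ 1701 := by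
  have hfin := finite_Fi24
  by_cases h2 : 2 ∣ orderOf x
  swap
  · have h1 : orderOf (x : Fi24) = orderOf x := Subgroup.orderOf_coe x
    rcases Odd24.odd24 (x := (x : Fi24)) (by rwa [h1]) with h3 | h3
    · rw [h1] at h3
      exact h3.trans (by norm_num)
    · have h4 : ((x : Fi24) ^ 7) ^ 3 ^ 16 = 1 := by
        rw [← pow_mul]
        exact orderOf_dvd_iff_pow_eq_one.1 h3
      have h5 := Three24.three24 h4
      rw [← pow_mul] at h5
      rw [← h1]
      exact Nat.le_of_dvd (by norm_num) (orderOf_dvd_of_pow_eq_one h5)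
  obtain ⟨w, hw, hw1, hxw⟩ := Fi22.exists_inv h2
  have hw2 : orderOf w = 2 := by
    have : Fact (Nat.Prime 2) := ⟨Nat.prime_two⟩
    exact orderOf_eq_prime (by rw [pow_two, hw]) hw1
  rcases classes w hw2 with ⟨a, b, P, h1⟩ | ⟨g, rfl⟩
  · exact (max_ab P h1 hxw).trans (by norm_num)
  · have h3 : (g⁻¹ * x * g) * z0 = z0 * (g⁻¹ * x * g) := by
      calc g⁻¹ * x * g * z0 = g⁻¹ * (x * (g * z0 * g⁻¹)) * g := by group
        _ = g⁻¹ * (g * z0 * g⁻¹ * x) * g := by rw [hxw]
        _ = _ := by group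
    have h4 := max_z0 T hA h3
    have h5 := orderOf_conj g⁻¹ x
    rw [inv_inv] at h5
    rw [← h5]
    exact h4.trans (by norm_num)

end Cent

end Cfsg.Agent.H842.Cyc.Fi24
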